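import Groth.Agent.FibLocFreeLib.FreeAt
import Groth.Agent.ConsLib.ModLoci
import Groth.Agent.ConsLib.Basic
import Groth.Agent.ProConsLib.Sch
import Groth.Agent.RichLib.ModFlatGlobal
import Groth.Agent.VBResLib.Basic
import Groth.Agent.MiscFlat6.FreeStalks
import Groth.Agent.CurvLib.StalkSum
import Groth.Agent.CohCmpLib.FrameTools
import Groth.Agent.S4698
import Mathlib.AlgebraicGeometry.Noetherian

/-! # The locus of fibres on which a module is locally free -/

set_option autoImplicit false
set_option maxHeartbeats 1000000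
set_option backward.isDefEq.respectTransparency false
set_option linter.all false

noncomputable section

universe u

open CategoryTheory CategoryTheory.Limits AlgebraicGeometry TopologicalSpace Opposite Topology
open scoped TensorProduct

namespace FibLocFreeLib

/-- The stalk at `x` is free, of rank satisfying `Q`. -/
def FreeAt (Q : ℕ → Prop) {X : Scheme.{u}} (F : X.Modules) (x : X) : Prop :=
  Module.Free (X.presheaf.stalk x) (F.presheaf.stalk x) ∧ Q (Module.finrank (X.presheaf.stalk x) (F.presheaf.stalk x))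

/-- All stalks are free, of rank satisfying `Q`. -/
def LF (Q : ℕ → Prop) {X : Scheme.{u}} (F : X.Modules) : Prop := ∀ x : X, FreeAt Q F x

variable {Q : ℕ → Prop}

theorem finrank_pullback {X' X : Scheme.{u}} (g : X' ⟶ X) (F : X.Modules) (x' : X')
    [Module.Free (X.presheaf.stalk (g x')) (F.presheaf.stalk (g x'))] :
    Module.finrank (X'.presheaf.stalk x') (((Scheme.Modules.pullback g).obj F).presheaf.stalk x') =
      Module.finrank (X.presheaf.stalk (g x')) (F.presheaf.stalk (g x')) := by
  letI := (g.stalkMap x').hom.toAlgebra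
  obtain ⟨e, -⟩ := CohCmpLib.exists_stalkPullEquiv g F x'
  haveI : Module.Free (X.presheaf.stalk (g x')) (CohCmpLib.stk F (g x')) := ‹_›
  exact e.finrank_eq.symm.trans Module.finrank_baseChange

theorem FreeAt.pullback {X' X : Scheme.{u}} (g : X' ⟶ X) {F : X.Modules} {x' : X'} (h : FreeAt Q F (g x')) :
    FreeAt Q ((Scheme.Modules.pullback g).obj F) x' := by
  haveI := h.1
  refine ⟨?_, finrank_pullback g F x' ▸ h.2⟩
  letI := (g.stalkMap x').hom.toAlgebra
  obtain ⟨e, -⟩ := CohCmpLib.exists_stalkPullEquiv g F x'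
  haveI : Module.Free (X.presheaf.stalk (g x')) (CohCmpLib.stk F (g x')) := h.1
  exact Module.Free.of_equiv e

theorem FreeAt.of_iso {X : Scheme.{u}} {F F' : X.Modules} (e : F ≅ F') {x : X} (h : FreeAt Q F x) : FreeAt Q F' x := by
  let L : CohCmpLib.stk F x ≃ₗ[X.presheaf.stalk x] CohCmpLib.stk F' x :=
    ((DerSch.stalkFunctor X x).mapIso e).toLinearEquiv
  haveI : Module.Free (X.presheaf.stalk x) (CohCmpLib.stk F x) := h.1
  refine ⟨Module.Free.of_equiv L, ?_⟩
  show Q (Module.finrank (X.presheaf.stalk x) (CohCmpLib.stk F' x))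
  rw [← L.finrank_eq]
  exact h.2

theorem freeAt_pullback_iff {X S X' S' : Scheme.{u}} (f : X ⟶ S) (F : X.Modules) (hF : CohB1.IsFP F)
    (g : S' ⟶ S) (f' : X' ⟶ S') (g' : X' ⟶ X) (hc : IsPullback g' f' f g) (x' : X')
    (hfl : FlatMod.IsFlatOverAt f F (g' x')) :
    FreeAt Q ((Scheme.Modules.pullback g').obj F) x' ↔ FreeAt Q F (g' x') := by
  refine ⟨fun h => ?_, fun h => h.pullback g'⟩
  have h1 := (free_stalk_pullback_iff_at f F hF g f' g' hc x' hfl).1 h.1
  haveI := h1
  exact ⟨h1, finrank_pullback g' F x' ▸ h.2⟩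

theorem lf_true_iff {X : Scheme.{u}} (F : X.Modules) [Coh.IsQCoh F] (hF : CohB1.IsFP F) :
    LF (fun _ => True) F ↔ FlatMod.IsFinLocFree F :=
  ⟨fun h => MiscFlat6.isFP_and_free_iff.1 ⟨hF, fun x => (h x).1⟩,
    fun h x => ⟨MiscFlat6.free_stalk_of_isFinLocFree h x, trivial⟩⟩

theorem lf_eq_iff {X : Scheme.{u}} (F : X.Modules) [Coh.IsQCoh F] (hF : CohB1.IsFP F) (n : ℕ) :
    LF (fun r => r = n) F ↔ FlatMod.IsFinLocFreeOfRank n F := by
  refine ⟨fun h x => ?_, fun h x => ?_⟩
  · have hlf : FlatMod.IsFinLocFree F := MiscFlat6.isFP_and_free_iff.1 ⟨hF, fun y => (h y).1⟩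
    obtain ⟨U, m, e, hx, he⟩ := ProjFormLib.exists_frame hlf x
    obtain rfl : m = n := (MiscFlat6.finrank_of_frame he hx).symm.trans (h x).2
    obtain ⟨φ⟩ := CohCmpLib.exists_iso_freeMod_of_frame
      (CohCmpLib.isFrame_puSecLE U.ι he (V := (⊤ : (U : Scheme.{u}).Opens)) (fun z _ => z.2))
    exact ⟨U, hx, ⟨(Scheme.Modules.restrictFunctorIsoPullback U.ι).app F ≪≫ φ⟩⟩
  · obtain ⟨L⟩ := CurvLib.nonempty_stalk_pi_of_locFree h x
    haveI : Module.Free (X.presheaf.stalk x) (F.presheaf.stalk x) := Module.Free.of_equiv L.symm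
    exact ⟨inferInstance, L.finrank_eq.trans (Module.finrank_fin_fun _)⟩

theorem isOpen_freeAt {X : Scheme.{u}} [IsLocallyNoetherian X] {F : X.Modules} (hF : Coh.IsCoh F) :
    IsOpen {x : X | FreeAt Q F x} := by
  haveI := hF.1
  let W : X.Opens := ⟨_, VBResLib.isOpen_free hF⟩
  haveI : Coh.IsQCoh ((Scheme.Modules.pullback W.ι).obj F) := KFlatLib.isQCoh_pullback W.ι F
  have hlf : FlatMod.IsFinLocFree ((Scheme.Modules.pullback W.ι).obj F) :=
    MiscFlat6.isFP_and_free_iff.1 ⟨RichLib.ModFlat.isFP_pullback _ (QCohLib.isFP_of_isCoh F hF), fun y => by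
      letI := (W.ι.stalkMap y).hom.toAlgebra
      obtain ⟨e, -⟩ := CohCmpLib.exists_stalkPullEquiv W.ι F y
      haveI : Module.Free (X.presheaf.stalk (W.ι y)) (CohCmpLib.stk F (W.ι y)) := y.2
      exact Module.Free.of_equiv e⟩
  rw [isOpen_iff_forall_mem_open]
  intro x hx
  obtain ⟨U, m, e, hxU, he⟩ := ProjFormLib.exists_frame hlf ⟨x, hx.1⟩
  refine ⟨W.ι ''ᵁ U, ?_, (W.ι ''ᵁ U).2, ⟨⟨x, hx.1⟩, hxU, rfl⟩⟩
  rintro _ ⟨y, hy, rfl⟩
  haveI : Module.Free (X.presheaf.stalk (W.ι y)) (F.presheaf.stalk (W.ι y)) := y.2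
  haveI : Module.Free (X.presheaf.stalk (W.ι ⟨x, hx.1⟩)) (F.presheaf.stalk (W.ι ⟨x, hx.1⟩)) := hx.1
  have h1 := (finrank_pullback W.ι F y).symm.trans (MiscFlat6.finrank_of_frame he hy)
  have h2 := (finrank_pullback W.ι F ⟨x, hx.1⟩).symm.trans (MiscFlat6.finrank_of_frame he hxU)
  refine ⟨y.2, ?_⟩
  exact (congrArg Q (h1.trans h2.symm)).mpr hx.2

theorem isFlatOverAt_point {Y T : Scheme.{u}} [IsIntegral T] [Subsingleton T] (g : Y ⟶ T) (M : Y.Modules) (y : Y) :
    FlatMod.IsFlatOverAt g M y := by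
  letI := FlatMod.moduleStalkOver g M y
  have hfld : IsField (T.presheaf.stalk (g y)) := by
    rw [show g y = genericPoint T from Subsingleton.elim _ _]
    exact (inferInstance : Field T.functionField).toIsField
  letI : Field (T.presheaf.stalk (g y)) := hfld.toField
  exact (inferInstance : Module.Flat (T.presheaf.stalk (g y)) (M.presheaf.stalk y))

variable (Q) in
/-- Having free stalks of rank satisfying `Q` is a constructible property. -/
theorem isConsMod : ConsProp.IsConsMod (fun _ _ _ F => LF Q F) := by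
  refine ⟨fun Y Y' T T' g g' e h _ _ _ _ _ _ hc F F' hF i => ?_, fun X S u _ _ _ _ F hF => ?_⟩
  · haveI : IsLocallyNoetherian Y := LocallyOfFiniteType.isLocallyNoetherian g
    have hFP := QCohLib.isFP_of_isCoh F hF
    have key : ∀ y' : Y', FreeAt Q F' y' ↔ FreeAt Q F (e y') := fun y' =>
      ⟨fun h' => (freeAt_pullback_iff g F hFP h g' e hc y' (isFlatOverAt_point g F _)).1 (h'.of_iso i),
        fun h' => (h'.pullback e).of_iso i.symm⟩
    haveI : Surjective h := ⟨fun t => ⟨(inferInstance : Nonempty T').some, Subsingleton.elim _ _⟩⟩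
    haveI : Surjective e := MorphismProperty.of_isPullback hc.flip ‹Surjective h›
    refine ⟨fun hL y' => (key y').2 (hL _), fun hL y => ?_⟩
    obtain ⟨y', rfl⟩ := e.surjective y
    exact (key y').1 (hL y')
  · haveI : LocallyOfFinitePresentation u := LocallyOfFinitePresentation.iff_locallyOfFiniteType.2 inferInstance
    haveI : IsLocallyNoetherian X := LocallyOfFiniteType.isLocallyNoetherian u
    haveI : CompactSpace X := QuasiCompact.compactSpace_of_compactSpace u
    haveI : IsNoetherian X := { }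
    have hFP := QCohLib.isFP_of_isCoh F hF
    obtain ⟨U, hUne, hU⟩ := Groth.Agent.S4698.result u F hF
    let B : Set X := {x | FreeAt Q F x}ᶜ
    let E := ConsProp.locusMod (fun _ _ _ F => LF Q F) u F
    have hmem : ∀ s ∈ U, s ∈ E ↔ s ∉ u '' B := fun s hs => by
      have hc : IsPullback (u.fiberι s) (u.fiberToSpecResidueField s) u (S.fromSpecResidueField s) :=
        IsPullback.of_hasPullback _ _
      constructor
      · rintro hE ⟨x, hxB, rfl⟩
        have hfl : FlatMod.IsFlatOverAt u F (u.fiberι (u x) (u.asFiber x)) := by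
          rw [u.fiberι_asFiber]
          exact hU x hs
        have h1 := (freeAt_pullback_iff u F hFP (S.fromSpecResidueField (u x))
          (u.fiberToSpecResidueField (u x)) (u.fiberι (u x)) hc (u.asFiber x) hfl).1 (hE (u.asFiber x))
        rw [u.fiberι_asFiber] at h1
        exact hxB h1
      · intro hn y
        have hy : u (u.fiberι s y) = s := by
          have : u.fiberι s y ∈ u ⁻¹' {s} := by rw [← Scheme.Hom.range_fiberι]; exact ⟨y, rfl⟩
          exact this
        exact FreeAt.pullback (u.fiberι s) (not_not.1 fun hb => hn ⟨u.fiberι s y, hb, hy⟩)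
    have hB : IsConstructible B :=
      (((TopologicalSpace.NoetherianSpace.isCompact _).isConstructible (isOpen_freeAt hF)).compl)
    have hT : IsConstructible (u '' B) := u.isConstructible_image hB
    have hind : ∀ {A : Set S}, IsConstructible A → ProCons.IsIndConstructible A := fun hA =>
      (Groth.Agent.ProConsLib.isLocallyConstructible_iff_ind_and_pro.mp hA.isLocallyConstructible).1
    have hηU : genericPoint S ∈ (U : Set S) := by
      obtain ⟨s, hs⟩ := hUne
      exact (genericPoint_specializes s).mem_open U.2 hs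
    by_cases hη : genericPoint S ∈ u '' B
    · refine Or.inr ⟨genericPoint S, ?_⟩
      have h1 : genericPoint S ∈ interior (u '' B) ∩ U :=
        ⟨ConsLib.mem_interior_of_indConstructible (hind hT) hη, hηU⟩
      exact interior_maximal (fun s (hs : s ∈ interior (u '' B) ∩ U) hE => (hmem s hs.2).1 hE (interior_subset hs.1))
        (isOpen_interior.inter U.2) h1
    · refine Or.inl ⟨genericPoint S, ?_⟩
      have h1 : genericPoint S ∈ interior ((u '' B)ᶜ) ∩ U :=
        ⟨ConsLib.mem_interior_of_indConstructible (hind hT.compl) hη, hηU⟩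
      exact interior_maximal (fun s (hs : s ∈ interior ((u '' B)ᶜ) ∩ U) => (hmem s hs.2).2 (interior_subset hs.1))
        (isOpen_interior.inter U.2) h1

theorem isLocallyConstructible_lf {X S : Scheme.{u}} (f : X ⟶ S) [LocallyOfFinitePresentation f] [QuasiCompact f]
    [QuasiSeparated f] (F : X.Modules) [Coh.IsQCoh F] (hF : CohB1.IsFP F) (Q : ℕ → Prop) :
    IsLocallyConstructible {s : S | LF Q ((Scheme.Modules.pullback (f.fiberι s)).obj F)} :=
  ConsLib.isLocallyConstructible_locusMod (isConsMod Q) f F hF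

end FibLocFreeLib
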